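import Groth.Prelude.Def_GrSyz
import Groth.Prelude.Def_CohB1
import Mathlib.RingTheory.MvPolynomial.Homogeneous

/-!
The two standard gradings of a polynomial ring, and homogeneous components.
-/

set_option autoImplicit false
universe u

open MvPolynomial DirectSum

noncomputable section

namespace Groth.L22.SyzTilde

variable {k : Type u} [Field k] {r : ℕ}

/-- The polynomial ring. -/
abbrev S (r : ℕ) (k : Type u) [Field k] : Type u := MvPolynomial (Fin (r + 1)) k

/-- The grading by integers. -/
abbrev G (r : ℕ) (k : Type u) [Field k] : ℤ → Submodule k (S r k) := GrSyz.stdGr k (Fin (r + 1))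

theorem weight_cast (m : Fin (r + 1) →₀ ℕ) :
    Finsupp.weight (fun _ : Fin (r + 1) => (1 : ℤ)) m = ((m.degree : ℕ) : ℤ) := by
  rw [Finsupp.weight_apply, Finsupp.degree]
  simp [Finsupp.sum]

theorem mem_G_cast {p : S r k} {i : ℕ} : p ∈ G r k (i : ℤ) ↔ p ∈ CohB1.polyGrading r k i := by
  rw [GrSyz.mem_stdGr_iff, CohB1.polyGrading, mem_homogeneousSubmodule]
  refine forall₂_congr fun m _ => ?_
  rw [weight_cast, Finsupp.degree_eq_weight_one]
  exact Nat.cast_inj

theorem eq_zero_of_mem_G_neg {p : S r k} {δ : ℤ} (hδ : δ < 0) (hp : p ∈ G r k δ) : p = 0 := by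
  ext m
  rw [coeff_zero]
  by_contra h
  have := (GrSyz.mem_stdGr_iff k (Fin (r + 1)) δ p).1 hp h
  rw [weight_cast] at this
  omega

theorem exists_nat_of_mem_G {p : S r k} {δ : ℤ} (hp : p ∈ G r k δ) :
    p = 0 ∨ ∃ i : ℕ, (i : ℤ) = δ ∧ p ∈ CohB1.polyGrading r k i := by
  rcases lt_or_ge δ 0 with h | h
  · exact Or.inl (eq_zero_of_mem_G_neg h hp)
  · obtain ⟨i, rfl⟩ := Int.eq_ofNat_of_zero_le h
    exact Or.inr ⟨i, rfl, mem_G_cast.1 hp⟩

variable {M : Type u} [AddCommGroup M] [Module k M] [Module (S r k) M] (ℳ : ℤ → Submodule k M)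
  [DirectSum.Decomposition ℳ] [SetLike.GradedSMul (G r k) ℳ]

/-- Components of a combination with homogeneous coefficients on one side. -/
theorem decompose_smul_left {a : ℤ} {p : S r k} (hp : p ∈ G r k a) (m : M) (j : ℤ) :
    (decompose ℳ (p • m) j : M) = p • (decompose ℳ m (j - a) : M) := by
  induction m using DirectSum.Decomposition.inductionOn ℳ with
  | zero => simp
  | homogeneous m =>
    rename_i i
    have h : p • (m : M) ∈ ℳ (a + i) := SetLike.GradedSMul.smul_mem hp m.2
    by_cases hj : j = a + i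
    · subst hj
      rw [decompose_of_mem_same ℳ h, add_sub_cancel_left, decompose_coe, of_eq_same]
    · rw [decompose_of_mem_ne ℳ h (Ne.symm hj), decompose_of_mem_ne ℳ m.2 (show i ≠ j - a by omega), smul_zero]
  | add m m' h h' => simp only [smul_add, decompose_add, DirectSum.add_apply, Submodule.coe_add, h, h']

theorem decompose_smul_right {b : ℤ} {m : M} (hm : m ∈ ℳ b) (c : S r k) (j : ℤ) :
    (decompose ℳ (c • m) j : M) = (decompose (G r k) c (j - b) : S r k) • m := by
  induction c using DirectSum.Decomposition.inductionOn (G r k) with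
  | zero => simp
  | homogeneous c =>
    rename_i i
    have h : (c : S r k) • m ∈ ℳ (i + b) := SetLike.GradedSMul.smul_mem c.2 hm
    by_cases hj : j = i + b
    · subst hj
      rw [decompose_of_mem_same ℳ h, add_sub_cancel_right, decompose_coe, of_eq_same]
    · rw [decompose_of_mem_ne ℳ h (Ne.symm hj), decompose_of_mem_ne (G r k) c.2 (show i ≠ j - b by omega),
        zero_smul]
  | add c c' h h' => simp only [add_smul, decompose_add, DirectSum.add_apply, Submodule.coe_add, h, h']

/-- An annihilator avoiding a homogeneous ideal can be taken homogeneous. -/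
theorem exists_hom_kill (I : Ideal (S r k)) {c : S r k} (hc : c ∉ I) {ι : Type*} (m : ι → M) (b : ι → ℤ)
    (hm : ∀ a, m a ∈ ℳ (b a)) (h : ∀ a, c • m a = 0) :
    ∃ (i : ℤ) (c' : S r k), c' ∈ G r k i ∧ c' ∉ I ∧ ∀ a, c' • m a = 0 := by
  classical
  by_contra hne
  push_neg at hne
  refine hc ?_
  rw [← DirectSum.sum_support_decompose (G r k) c]
  refine sum_mem fun i _ => ?_
  by_contra hi
  obtain ⟨a, ha⟩ := hne i _ (SetLike.coe_mem _) hi
  refine ha ?_
  have := decompose_smul_right ℳ (hm a) c (i + b a)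
  rw [h a, add_sub_cancel_right] at this
  simpa using this.symm

end Groth.L22.SyzTilde
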