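import Groth.Agent.L22.SyzTilde.Fibre
import Groth.Agent.L22.SyzTilde.Alg

/-!
The morphisms `O(n) ⟶ O(n')` and `O(n) ⟶ M~` given by homogeneous elements.
-/

set_option autoImplicit false
set_option backward.isDefEq.respectTransparency false
universe u

open CategoryTheory CategoryTheory.Limits AlgebraicGeometry TopologicalSpace Opposite TopCat

noncomputable section

namespace Groth.L22.SyzTilde

variable {k : Type u} [Field k] {r : ℕ}

/-- `p / 1`. -/
abbrev toLoc (x : ProjectiveSpectrum (CohB1.polyGrading r k)) (p : S r k) : Twist.Loc (CohB1.polyGrading r k) x :=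
  Localization.mk p ⟨1, Groth.L16.ProjTwist.one_notMem _ x⟩

section Mul

variable {p : S r k} {δ n n' : ℤ} (hp : p ∈ G r k δ) (h : n + δ = n')

include hp h

theorem mul_mem_twistAt {x : ProjectiveSpectrum (CohB1.polyGrading r k)} {c : Twist.Loc (CohB1.polyGrading r k) x}
    (hc : c ∈ Twist.twistAt (CohB1.polyGrading r k) n x) :
    toLoc x p * c ∈ Twist.twistAt (CohB1.polyGrading r k) n' x := by
  rcases exists_nat_of_mem_G hp with rfl | ⟨d, rfl, hd⟩
  · rw [toLoc, Localization.mk_zero, zero_mul]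
    exact zero_mem _
  induction hc using Submodule.span_induction with
  | mem c hc =>
    obtain ⟨i, j, a, s, hs, hij, rfl⟩ := hc
    refine Submodule.subset_span ⟨d + i, j, ⟨p * a.1, SetLike.mul_mem_graded hd a.2⟩, s, hs,
      by push_cast; omega, ?_⟩
    rw [toLoc, Localization.mk_mul]
    congr 1
    exact Subtype.ext (one_mul _)
  | zero => rw [mul_zero]; exact zero_mem _
  | add _ _ _ _ h h' => rw [mul_add]; exact add_mem h h'
  | smul q c _ hq =>
    rw [Algebra.smul_def, mul_left_comm, ← Algebra.smul_def]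
    exact Submodule.smul_mem _ q hq

/-- Multiplication on sections. -/
def mulSec (U : (Opens (ProjectiveSpectrum.top (CohB1.polyGrading r k)))ᵒᵖ) :
    Twist.sectN (𝒜 := CohB1.polyGrading r k) n U →+ Twist.sectN (𝒜 := CohB1.polyGrading r k) n' U where
  toFun f := ⟨fun x => ⟨toLoc x.1 p * (f.1 x).1, mul_mem_twistAt hp h (f.1 x).2⟩, fun x => by
    obtain ⟨V, mV, iV, i, j, a, s, nin, c, w⟩ := f.2 x
    rcases exists_nat_of_mem_G hp with hp0 | ⟨d, hd', hd⟩
    · refine ⟨V, mV, iV, 0, j, 0, s, nin, Or.inr rfl, fun y => ?_⟩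
      show toLoc y.1 p * (f.1 (iV y)).1 = _
      simp [hp0, toLoc, Localization.mk_zero]
    refine ⟨V, mV, iV, d + i, j, ⟨p * a.1, SetLike.mul_mem_graded hd a.2⟩, s, nin, ?_, fun y => ?_⟩
    · rcases c with c | c
      · exact Or.inl (by push_cast; omega)
      · exact Or.inr (show p * a.1 = 0 by rw [c, mul_zero])
    · show toLoc y.1 p * (f.1 (iV y)).1 = _
      erw [w y]
      rw [Localization.mk_mul]
      congr 1
      exact Subtype.ext (one_mul _)⟩
  map_zero' := Subtype.ext (funext fun x => Subtype.ext (mul_zero _))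
  map_add' f g := Subtype.ext (funext fun x => Subtype.ext (mul_add _ _ _))

/-- Multiplication by `p`. -/
def mulHom : Twist.twist (CohB1.polyGrading r k) n ⟶ Twist.twist (CohB1.polyGrading r k) n' :=
  ⟨PresheafOfModules.homMk
    { app := fun U => AddCommGrpCat.ofHom (mulSec hp h U)
      naturality := fun _ _ _ => rfl }
    fun U q f => Subtype.ext (funext fun x => Subtype.ext (by
      show toLoc x.1 p * ((q.1 x) • (f.1 x) : Twist.twistAt (CohB1.polyGrading r k) n x.1).1 =
        ((q.1 x) • (⟨toLoc x.1 p * (f.1 x).1, mul_mem_twistAt hp h (f.1 x).2⟩ :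
          Twist.twistAt (CohB1.polyGrading r k) n' x.1)).1
      rw [Twist.coe_smul_val, Twist.coe_smul_val, mul_left_comm]))⟩

theorem evalT_mulHom (x : ProjectiveSpectrum (CohB1.polyGrading r k))
    (z : (Groth.L21.Mod.stalkF (Proj (CohB1.polyGrading r k)) x).obj (Twist.twist (CohB1.polyGrading r k) n)) :
    evalT n' x ((Groth.L21.Mod.stalkF (Proj (CohB1.polyGrading r k)) x).map (mulHom hp h) z) =
      toLoc x p * evalT n x z := by
  obtain ⟨U, hx, s, rfl⟩ := TopCat.Presheaf.exists_germ_eq (Twist.twist (CohB1.polyGrading r k) n).presheaf z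
  refine (congrArg (evalT n' x) (Groth.L21.Mod.stalkF_map_germ (mulHom hp h) U x hx s)).trans ?_
  refine (evalT_germ n' x U hx _).trans ?_
  exact congrArg (toLoc x p * ·) (evalT_germ n x U hx s).symm

end Mul

section Rho

variable {M : Type u} [AddCommGroup M] [Module k M] [Module (S r k) M] {ℳ : ℤ → Submodule k M}
  [DirectSum.Decomposition ℳ] [SetLike.GradedSMul (G r k) ℳ]
  [SetLike.GradedSMul (CohB1.polyGrading r k) (fun n : ℕ => ℳ (n : ℤ))]
variable {m : M} {e n : ℤ} (hm : m ∈ ℳ e) (h : n + e = 0)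

include hm h

omit [SetLike.GradedSMul (CohB1.polyGrading r k) (fun n : ℕ => ℳ (n : ℤ))] in
theorem smul_mem_of (i j : ℕ) (a : S r k) (ha : a ∈ CohB1.polyGrading r k i) (hij : (i : ℤ) = j + n) :
    a • m ∈ ℳ (j : ℤ) := by
  have := SetLike.GradedSMul.smul_mem (mem_G_cast.2 ha) hm
  rwa [show ((i : ℤ) +ᵥ e) = (j : ℤ) by show (i : ℤ) + e = j; omega] at this

omit [DirectSum.Decomposition ℳ] in
theorem smul_mem_tildeAt {x : ProjectiveSpectrum (CohB1.polyGrading r k)} {c : Twist.Loc (CohB1.polyGrading r k) x}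
    (hc : c ∈ Twist.twistAt (CohB1.polyGrading r k) n x) :
    c • (LocalizedModule.mk m ⟨1, Groth.L16.ProjTwist.one_notMem _ x⟩ : GrTilde.LocMod (CohB1.polyGrading r k) (M := M) x) ∈
      GrTilde.tildeAt (CohB1.polyGrading r k) (fun n : ℕ => ℳ (n : ℤ)) 0 x := by
  induction hc using Submodule.span_induction with
  | mem c hc =>
    obtain ⟨i, j, a, s, hs, hij, rfl⟩ := hc
    refine Submodule.subset_span ⟨j, j, ⟨a.1 • m, ?_⟩, s, hs, by simp, ?_⟩
    · have := SetLike.GradedSMul.smul_mem (mem_G_cast.2 a.2) hm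
      rwa [show ((i : ℤ) +ᵥ e) = (j : ℤ) by show (i : ℤ) + e = j; omega] at this
    · rw [LocalizedModule.mk_smul_mk]
      congr 1
      exact Subtype.ext (mul_one _)
  | zero => rw [zero_smul]; exact zero_mem _
  | add _ _ _ _ h h' => rw [add_smul]; exact add_mem h h'
  | smul q c _ hq =>
    rw [Algebra.smul_def, HomogeneousLocalization.algebraMap_apply, mul_smul]
    exact Submodule.smul_mem _ q hq

/-- The map on sections. -/
def rhoSec (U : (Opens (ProjectiveSpectrum.top (CohB1.polyGrading r k)))ᵒᵖ) :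
    Twist.sectN (𝒜 := CohB1.polyGrading r k) n U →+
      GrTilde.sect (CohB1.polyGrading r k) (fun n : ℕ => ℳ (n : ℤ)) 0 U where
  toFun f := ⟨fun x => ⟨(f.1 x).1 • LocalizedModule.mk m ⟨1, Groth.L16.ProjTwist.one_notMem _ x.1⟩,
      smul_mem_tildeAt hm h (f.1 x).2⟩, fun x => by
    obtain ⟨V, mV, iV, i, j, a, s, nin, c, w⟩ := f.2 x
    rcases c with c | c
    · refine ⟨V, mV, iV, j, j, ⟨a.1 • m, smul_mem_of hm h i j a.1 a.2 c⟩, s, nin, Or.inl (by simp), fun y => ?_⟩
      show (f.1 (iV y)).1 • (LocalizedModule.mk m _ : GrTilde.LocMod (CohB1.polyGrading r k) (M := M) y.1) = _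
      erw [w y]
      rw [LocalizedModule.mk_smul_mk]
      congr 1
      exact Subtype.ext (mul_one _)
    · refine ⟨V, mV, iV, j, j, 0, s, nin, Or.inr rfl, fun y => ?_⟩
      show (f.1 (iV y)).1 • (LocalizedModule.mk m _ : GrTilde.LocMod (CohB1.polyGrading r k) (M := M) y.1) = _
      erw [w y]
      rw [LocalizedModule.mk_smul_mk, c, zero_smul]
      simp⟩
  map_zero' := Subtype.ext (funext fun x => Subtype.ext (zero_smul _ _))
  map_add' f g := Subtype.ext (funext fun x => Subtype.ext (add_smul _ _ _))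

/-- `O(n) ⟶ M~` given by an element of degree `-n`. -/
def rhoHom : Twist.twist (CohB1.polyGrading r k) n ⟶
    GrTilde.tilde (CohB1.polyGrading r k) (fun n : ℕ => ℳ (n : ℤ)) 0 :=
  ⟨PresheafOfModules.homMk
    { app := fun U => AddCommGrpCat.ofHom (rhoSec hm h U)
      naturality := fun _ _ _ => rfl }
    fun U q f => Subtype.ext (funext fun x => Subtype.ext (by
      show ((q.1 x) • (f.1 x) : Twist.twistAt (CohB1.polyGrading r k) n x.1).1 •
          (LocalizedModule.mk m ⟨1, Groth.L16.ProjTwist.one_notMem _ x.1⟩ : GrTilde.LocMod (CohB1.polyGrading r k) (M := M) x.1) =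
        ((q.1 x) • (⟨_, smul_mem_tildeAt hm h (f.1 x).2⟩ :
          GrTilde.tildeAt (CohB1.polyGrading r k) (fun n : ℕ => ℳ (n : ℤ)) 0 x.1)).1
      rw [Twist.coe_smul_val, GrTilde.coe_smul_val, mul_smul]))⟩

theorem evalM_rhoHom (x : ProjectiveSpectrum (CohB1.polyGrading r k))
    (z : (Groth.L21.Mod.stalkF (Proj (CohB1.polyGrading r k)) x).obj (Twist.twist (CohB1.polyGrading r k) n)) :
    evalM (fun n : ℕ => ℳ (n : ℤ)) 0 x
        ((Groth.L21.Mod.stalkF (Proj (CohB1.polyGrading r k)) x).map (rhoHom hm h) z) =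
      evalT n x z • LocalizedModule.mk m ⟨1, Groth.L16.ProjTwist.one_notMem _ x⟩ := by
  obtain ⟨U, hx, s, rfl⟩ := TopCat.Presheaf.exists_germ_eq (Twist.twist (CohB1.polyGrading r k) n).presheaf z
  refine (congrArg (evalM _ 0 x) (Groth.L21.Mod.stalkF_map_germ (rhoHom hm h) U x hx s)).trans ?_
  refine (evalM_germ 0 x U hx _).trans ?_
  exact congrArg (· • (LocalizedModule.mk m ⟨1, Groth.L16.ProjTwist.one_notMem _ x⟩ :
    GrTilde.LocMod (CohB1.polyGrading r k) (M := M) x)) (evalT_germ n x U hx s).symm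

end Rho

end Groth.L22.SyzTilde
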