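import Groth.Agent.L22.SyzTilde.Exact
import Groth.Agent.L22.Reg.Lin

/-!
Regularity of `M~` from a graded free resolution.
-/

set_option autoImplicit false
set_option backward.isDefEq.respectTransparency false
universe u

open CategoryTheory CategoryTheory.Limits AlgebraicGeometry TopologicalSpace Opposite

noncomputable section

namespace Groth.L22.SyzTilde

open Groth.L16 Groth.L22.Reg
open Groth.L00.Tensor (tensorRightF tensorIso)

variable {k : Type u} [Field k] {r : ℕ}

/-- The chase along a resolution. -/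
theorem regular_of_resolution {d : ℤ} (F B : ℕ → (CohB1.ProjSpace r k).Modules)
    (hB : ∀ i, Coh.IsCoh (B i)) (hF : ∀ i : ℕ, Regular (F i) (d + i))
    (h : ∀ i, ∃ (u : B (i + 1) ⟶ F i) (v : F i ⟶ B i) (w : u ≫ v = 0), (ShortComplex.mk u v w).ShortExact) :
    Regular (B 0) d := by
  suffices H : ∀ (j i q : ℕ), r < q + j → 1 ≤ q →
      Subsingleton (Coh.HH (CohB1.ProjSpace r k) (tw' (B i) (d + i - q)) q) by
    intro q hq
    simpa using H (r + 1) 0 q (by omega) hq
  intro j
  induction j with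
  | zero =>
    intro i q hq _
    haveI := (hB i).1
    haveI := isQCoh_tw (B i) (d + i - q)
    exact ProjSpace.subsingleton_HH_of_lt r k _ q (by omega)
  | succ j ih =>
    intro i q hq hq1
    obtain ⟨u, v, w, hS⟩ := h i
    refine subsingleton_of_exact
      (CohLinear.exact_hmap_delta (shortExact_tw hS (d + i - q)) q) ((hF i).subsingleton hq1 le_rfl) ?_ (map_zero _)
    have := ih (i + 1) (q + 1) (by omega) (by omega)
    rwa [show d + ((i + 1 : ℕ) : ℤ) - ((q + 1 : ℕ) : ℤ) = d + i - q by omega] at this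

theorem isCoh_Fr {N : ℕ} (deg : Fin N → ℤ) : Coh.IsCoh (Fr (r := r) (k := k) deg) :=
  ProjSpace.isCoh_sigma_twist r k fun b => -deg b

theorem regular_Fr {N : ℕ} {deg : Fin N → ℤ} {m : ℤ} (h : ∀ b, deg b ≤ m) :
    Regular (n := r) (R := k) (Fr (r := r) (k := k) deg) m := fun q hq => by
  obtain ⟨e⟩ := nonempty_tensor_sigma (n := r) (fun b => O' r k (-deg b)) (O' r k (m - q))
  refine subsingleton_iso e.symm q (ProjSpace.subsingleton_sigma _ q fun b => ?_)
  obtain ⟨e'⟩ := nonempty_O_add (n := r) (R := k) (show -deg b + (m - q) = -deg b + (m - q) from rfl)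
  exact subsingleton_iso e'.symm q
    (ProjSpace.subsingleton_HH_twist r k _ q (by omega) fun hh => by have := h b; omega)

variable {M : Type u} [AddCommGroup M] [Module k M] [Module (S r k) M]
  [IsScalarTower k (S r k) M] {ℳ : ℤ → Submodule k M}
  [DirectSum.Decomposition ℳ] [SetLike.GradedSMul (G r k) ℳ]
  [SetLike.GradedSMul (CohB1.polyGrading r k) (fun n : ℕ => ℳ (n : ℤ))]

theorem regular_tilde (F : GrSyz.FreeRes (G r k) ℳ) {d : ℤ} (hd : F.IsGenLE d) :
    Regular (n := r) (R := k) (GrTilde.tilde (CohB1.polyGrading r k) (fun n : ℕ => ℳ (n : ℤ)) 0) d := by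
  let B : ℕ → (CohB1.ProjSpace r k).Modules
    | 0 => GrTilde.tilde (CohB1.polyGrading r k) (fun n : ℕ => ℳ (n : ℤ)) 0
    | 1 => kernel (eps F)
    | i + 2 => kernel (dHom F i)
  haveI := epi_eps F
  haveI : IsLocallyNoetherian (PS r k) := inferInstanceAs (IsLocallyNoetherian (CohB1.ProjSpace r k))
  have hM : Coh.IsCoh (GrTilde.tilde (CohB1.polyGrading r k) (fun n : ℕ => ℳ (n : ℤ)) 0) :=
    Groth.L16.CohSupport.isCoh_of_iso
      (IsColimit.coconePointUniqueUpToIso (cokernelIsCokernel (dHom F 0)) (exact_zero' F).gIsCokernel)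
      (CohKernel.isCoh_kernel_cokernel (isCoh_Fr (F.deg 1)) (isCoh_Fr (F.deg 0)) (dHom F 0)).2
  refine regular_of_resolution (fun i => Fr (F.deg i)) B (fun i => ?_)
    (fun i => regular_Fr fun b => hd i b) (fun i => ?_)
  · match i with
    | 0 => exact hM
    | 1 => exact (CohKernel.isCoh_kernel_cokernel (isCoh_Fr _) hM (eps F)).1
    | i + 2 => exact (CohKernel.isCoh_kernel_cokernel (isCoh_Fr _) (isCoh_Fr _) (dHom F i)).1
  · match i with
    | 0 =>
      refine ⟨kernel.ι (eps F), eps F, kernel.condition _,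
        { exact := ShortComplex.exact_kernel _, epi_g := inferInstanceAs (Epi (eps F)) }⟩
    | 1 =>
      let v : Fr (F.deg 1) ⟶ kernel (eps F) := kernel.lift _ (dHom F 0) (eps_comp F)
      haveI : Epi v := (ShortComplex.exact_iff_epi_kernel_lift _).1 (exact_zero' F)
      exact ses_of_lift (dHom F 0) v (kernel.ι (eps F)) (kernel.lift_ι _ _ _)
    | i + 2 =>
      let v : Fr (F.deg (i + 2)) ⟶ kernel (dHom F i) := kernel.lift _ (dHom F (i + 1)) (dHom_comp F i)
      haveI : Epi v := (ShortComplex.exact_iff_epi_kernel_lift _).1 (exact_succ' F i)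
      exact ses_of_lift (dHom F (i + 1)) v (kernel.ι (dHom F i)) (kernel.lift_ι _ _ _)
where
  ses_of_lift {C : Type (u + 1)} [Category.{u} C] [Abelian C] {A A' Z : C} (f : A ⟶ A') (v : A ⟶ Z) (ι : Z ⟶ A')
      [Mono ι] [Epi v] (hv : v ≫ ι = f) :
      ∃ (p : kernel f ⟶ A) (q : A ⟶ Z) (w : p ≫ q = 0), (ShortComplex.mk p q w).ShortExact := by
    refine ⟨kernel.ι f, v, by rw [← cancel_mono ι, Category.assoc, hv, kernel.condition, zero_comp],
      { exact := ShortComplex.exact_of_f_is_kernel _ (KernelFork.IsLimit.ofι _ _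
          (fun g hg => kernel.lift _ g (by rw [← hv, reassoc_of% hg, zero_comp]))
          (fun g hg => kernel.lift_ι _ _ _)
          (fun g hg m hm => by rw [← cancel_mono (kernel.ι f), kernel.lift_ι, hm])) }⟩

end Groth.L22.SyzTilde
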