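import Groth.Agent.L22.SyzTilde.Free

/-!
A graded free resolution gives an exact complex of sheaves.
-/

set_option autoImplicit false
set_option backward.isDefEq.respectTransparency false
universe u

open CategoryTheory CategoryTheory.Limits AlgebraicGeometry TopologicalSpace Opposite TopCat DirectSum

noncomputable section

namespace Groth.L22.SyzTilde

variable {k : Type u} [Field k] {r : ℕ}
variable {M : Type u} [AddCommGroup M] [Module k M] [Module (S r k) M]
  [IsScalarTower k (S r k) M] {ℳ : ℤ → Submodule k M}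
  [DirectSum.Decomposition ℳ] [SetLike.GradedSMul (G r k) ℳ]
  [SetLike.GradedSMul (CohB1.polyGrading r k) (fun n : ℕ => ℳ (n : ℤ))]
variable (F : GrSyz.FreeRes (G r k) ℳ)

/-- The terms. -/
abbrev Term (i : ℕ) : (PS r k).Modules := Fr (r := r) (k := k) (F.deg i)

/-- The differentials. -/
def dHom (i : ℕ) : Term F (i + 1) ⟶ Term F i := matHom (F.d i) (F.d_mem i)

/-- The augmentation. -/
def eps : Term F 0 ⟶ GrTilde.tilde (CohB1.polyGrading r k) (fun n : ℕ => ℳ (n : ℤ)) 0 :=
  augHom (ℳ := ℳ) F.aug F.aug_mem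

theorem toLoc_smul_mk (x : ProjectiveSpectrum (CohB1.polyGrading r k)) (p : S r k) (s : x.asHomogeneousIdeal.toIdeal.primeCompl)
    (m : M) : (Localization.mk p s : Twist.Loc (CohB1.polyGrading r k) x) •
      (LocalizedModule.mk m ⟨1, Groth.L16.ProjTwist.one_notMem _ x⟩ : GrTilde.LocMod (CohB1.polyGrading r k) (M := M) x) =
        LocalizedModule.mk (p • m) s := by
  rw [LocalizedModule.mk_smul_mk]
  congr 1
  exact Subtype.ext (mul_one _)

theorem sum_mk {ι : Type*} (t : Finset ι) (x : ProjectiveSpectrum (CohB1.polyGrading r k))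
    (s : x.asHomogeneousIdeal.toIdeal.primeCompl) (f : ι → M) :
    ∑ b ∈ t, (LocalizedModule.mk (f b) s : GrTilde.LocMod (CohB1.polyGrading r k) (M := M) x) =
      LocalizedModule.mk (∑ b ∈ t, f b) s :=
  by
    classical
    induction t using Finset.induction_on with
    | empty => simp
    | insert a t ha ih =>
      rw [Finset.sum_insert ha, Finset.sum_insert ha, ih, LocalizedModule.mk_add_mk, LocalizedModule.mk_eq]
      refine ⟨1, ?_⟩
      simp only [one_smul, Submonoid.smul_def, Submonoid.coe_mul, smul_add, smul_smul]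

theorem sum_mk_loc {ι : Type*} (t : Finset ι) (x : ProjectiveSpectrum (CohB1.polyGrading r k))
    (s : x.asHomogeneousIdeal.toIdeal.primeCompl) (f : ι → S r k) :
    ∑ b ∈ t, (Localization.mk (f b) s : Twist.Loc (CohB1.polyGrading r k) x) = Localization.mk (∑ b ∈ t, f b) s :=
  (Localization.mk_sum f t s).symm

theorem eps_value (x : ProjectiveSpectrum (CohB1.polyGrading r k))
    (z : (Groth.L21.Mod.stalkF (PS r k) x).obj (Term F 0)) {j : ℕ} (s : CohB1.polyGrading r k j)
    (hs : s.1 ∉ x.asHomogeneousIdeal) (g : Fin (F.rk 0) → S r k)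
    (hg : ∀ a, theta (F.deg 0) x z a = Localization.mk (g a) ⟨s.1, hs⟩) :
    evalM (fun n : ℕ => ℳ (n : ℤ)) 0 x (st x (eps F) z) =
      LocalizedModule.mk (F.augLin g) ⟨s.1, hs⟩ := by
  rw [eps, evalM_augHom]
  simp only [hg, toLoc_smul_mk]
  rw [sum_mk]
  rfl

theorem dHom_value (i : ℕ) (x : ProjectiveSpectrum (CohB1.polyGrading r k))
    (z : (Groth.L21.Mod.stalkF (PS r k) x).obj (Term F (i + 1))) {j : ℕ} (s : CohB1.polyGrading r k j)
    (hs : s.1 ∉ x.asHomogeneousIdeal) (g : Fin (F.rk (i + 1)) → S r k)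
    (hg : ∀ a, theta (F.deg (i + 1)) x z a = Localization.mk (g a) ⟨s.1, hs⟩) (a : Fin (F.rk i)) :
    theta (F.deg i) x (st x (dHom F i) z) a = Localization.mk (F.dLin i g a) ⟨s.1, hs⟩ := by
  rw [dHom, theta_matHom]
  simp only [hg, toLoc, Localization.mk_mul]
  have e : ∀ q : x.asHomogeneousIdeal.toIdeal.primeCompl,
      (⟨1, Groth.L16.ProjTwist.one_notMem _ x⟩ : x.asHomogeneousIdeal.toIdeal.primeCompl) * q = q :=
    fun q => Subtype.ext (one_mul _)
  simp only [e]
  rw [sum_mk_loc]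
  rfl

theorem exists_preimage (i : ℕ) (x : ProjectiveSpectrum (CohB1.polyGrading r k))
    (z : (Groth.L21.Mod.stalkF (PS r k) x).obj (Term F i)) {j : ℕ} (s : CohB1.polyGrading r k j)
    (hs : s.1 ∉ x.asHomogeneousIdeal) (g : Fin (F.rk i) → S r k)
    (hgdeg : ∀ a, g a ∈ G r k ((j : ℤ) - F.deg i a))
    (hg : ∀ a, theta (F.deg i) x z a = Localization.mk (g a) ⟨s.1, hs⟩)
    {c : S r k} {l : ℤ} (hc : c ∈ G r k l) (hcx : c ∉ x.asHomogeneousIdeal)
    (h : c • g ∈ LinearMap.range (F.dLin i)) : ∃ z', st x (dHom F i) z' = z := by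
  classical
  rcases exists_nat_of_mem_G hc with h0 | ⟨l, rfl, hcl⟩
  · exact absurd (h0 ▸ zero_mem x.asHomogeneousIdeal.toIdeal) hcx
  obtain ⟨w, hw⟩ := h
  let w' : Fin (F.rk (i + 1)) → S r k := fun b =>
    decompose (G r k) (w b) (((l + j : ℕ) : ℤ) - F.deg (i + 1) b)
  have hw' : F.dLin i w' = c • g := by
    funext a
    have hwa : ∑ b, F.d i a b * w b = c * g a := congrFun hw a
    show ∑ b, F.d i a b * w' b = c * g a
    have hcg : c * g a ∈ G r k (((l + j : ℕ) : ℤ) - F.deg i a) := by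
      have := SetLike.mul_mem_graded hc (hgdeg a)
      rwa [show (l : ℤ) + ((j : ℤ) - F.deg i a) = ((l + j : ℕ) : ℤ) - F.deg i a by omega] at this
    rw [← decompose_of_mem_same (G r k) hcg, ← hwa, decompose_sum, DFinsupp.finset_sum_apply, Submodule.coe_sum]
    refine Finset.sum_congr rfl fun b _ => ?_
    rw [show F.d i a b * w b = F.d i a b • w b from rfl, decompose_smul_left (G r k) (F.d_mem i a b)]
    rw [show ((l + j : ℕ) : ℤ) - F.deg i a - (F.deg (i + 1) b - F.deg i a) =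
      ((l + j : ℕ) : ℤ) - F.deg (i + 1) b by omega]
    rfl
  have hcs : c * s.1 ∉ x.asHomogeneousIdeal := fun hh => (x.isPrime.mem_or_mem hh).elim hcx hs
  let t : CohB1.polyGrading r k (l + j) := ⟨c * s.1, SetLike.mul_mem_graded hcl s.2⟩
  obtain ⟨z', hz'⟩ := exists_theta_eq (F.deg (i + 1)) x t hcs w' fun b => SetLike.coe_mem _
  refine ⟨z', theta_injective _ x (funext fun a => ?_)⟩
  rw [dHom_value F i x z' t hcs w' hz' a, hg a, hw', Localization.mk_eq_mk_iff, Localization.r_iff_exists]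
  refine ⟨1, ?_⟩
  simp only [OneMemClass.coe_one, one_mul, Pi.smul_apply, smul_eq_mul, t]
  ring

theorem eq_zero_of_stalks {A B : (PS r k).Modules} (f : A ⟶ B) (h : ∀ x z, st x f z = 0) : f = 0 :=
  Groth.L21.Mod.hom_ext_stalk fun x => ConcreteCategory.hom_ext _ _ fun z => (h x z).trans (st_zero x z).symm

theorem eps_comp : dHom F 0 ≫ eps F = 0 :=
  eq_zero_of_stalks _ fun x z => evalM_injective 0 x (by
    obtain ⟨j, s, hs, g, -, hg⟩ := exists_common (F.deg 1) x z
    rw [st_comp, eps_value F x _ s hs (F.dLin 0 g) (dHom_value F 0 x z s hs g hg), map_zero,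
      show F.augLin (F.dLin 0 g) = 0 from LinearMap.mem_ker.1 (F.exact_zero ▸ LinearMap.mem_range_self _ g),
      LocalizedModule.zero_mk])

theorem dHom_comp (i : ℕ) : dHom F (i + 1) ≫ dHom F i = 0 := by
  refine eq_zero_of_stalks _ fun x z => theta_injective _ x (funext fun a => ?_)
  obtain ⟨j, s, hs, g, -, hg⟩ := exists_common (F.deg (i + 1 + 1)) x z
  rw [st_comp, dHom_value F i x _ s hs (F.dLin (i + 1) g) (dHom_value F (i + 1) x z s hs g hg) a, theta_zero,
    show F.dLin i (F.dLin (i + 1) g) = 0 from LinearMap.mem_ker.1 (F.exact_succ i ▸ LinearMap.mem_range_self _ g),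
    Pi.zero_apply, Localization.mk_zero]

theorem exact_zero' : (ShortComplex.mk (dHom F 0) (eps F) (eps_comp F)).Exact := by
  rw [Groth.L21.Mod.exact_iff_stalk]
  intro x
  rw [ShortComplex.ab_exact_iff]
  intro z hz
  change st x (eps F) z = 0 at hz
  obtain ⟨j, s, hs, g, hgdeg, hg⟩ := exists_common (F.deg 0) x z
  have h0 := congrArg (evalM (fun n : ℕ => ℳ (n : ℤ)) 0 x) hz
  rw [eps_value F x z s hs g hg, map_zero, ← LocalizedModule.zero_mk ⟨s.1, hs⟩, LocalizedModule.mk_eq] at h0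
  obtain ⟨⟨c, hcx⟩, hc⟩ := h0
  simp only [smul_zero, Submonoid.smul_def, smul_smul] at hc
  have hm : F.augLin g ∈ ℳ (j : ℤ) := by
    rw [show F.augLin g = ∑ b, g b • F.aug b from rfl]
    refine sum_mem fun b _ => ?_
    have := SetLike.GradedSMul.smul_mem (hgdeg b) (F.aug_mem b)
    rwa [show (((j : ℤ) - F.deg 0 b) +ᵥ F.deg 0 b) = (j : ℤ) by show (j : ℤ) - F.deg 0 b + F.deg 0 b = j; omega] at this
  have hcs : c * s.1 ∉ x.asHomogeneousIdeal := fun hh => (x.isPrime.mem_or_mem hh).elim hcx hs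
  obtain ⟨l, c', hc', hcx', hkill⟩ := exists_hom_kill ℳ x.asHomogeneousIdeal.toIdeal hcs
    (fun _ : Unit => F.augLin g) (fun _ => (j : ℤ)) (fun _ => hm) (fun _ => hc)
  refine exists_preimage F 0 x z s hs g hgdeg hg hc' hcx' ?_
  show c' • g ∈ LinearMap.range (Matrix.mulVecLin (F.d 0))
  rw [← F.exact_zero, LinearMap.mem_ker, map_smul]
  exact hkill ()

theorem exact_succ' (i : ℕ) : (ShortComplex.mk (dHom F (i + 1)) (dHom F i) (dHom_comp F i)).Exact := by
  rw [Groth.L21.Mod.exact_iff_stalk]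
  intro x
  rw [ShortComplex.ab_exact_iff]
  intro z hz
  change st x (dHom F i) z = 0 at hz
  obtain ⟨j, s, hs, g, hgdeg, hg⟩ := exists_common (F.deg (i + 1)) x z
  have h0 : ∀ a, ∃ c : S r k, c ∉ x.asHomogeneousIdeal ∧ c * F.dLin i g a = 0 := fun a => by
    have h := dHom_value F i x z s hs g hg a
    rw [hz, theta_zero, ← Localization.mk_zero ⟨s.1, hs⟩, Localization.mk_eq_mk_iff, Localization.r_iff_exists] at h
    obtain ⟨⟨c, hcx⟩, hc⟩ := h
    simp only [mul_zero] at hc
    exact ⟨c * s.1, fun hh => (x.isPrime.mem_or_mem hh).elim hcx hs, by rw [mul_assoc]; exact hc.symm⟩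
  choose c hcx hc using h0
  have hC : (∏ a, c a) ∉ x.asHomogeneousIdeal := fun hh => by
    obtain ⟨a, -, ha⟩ := x.isPrime.prod_mem_iff.1 hh
    exact hcx a ha
  have hdeg : ∀ a, F.dLin i g a ∈ G r k ((j : ℤ) - F.deg i a) := fun a => by
    show (∑ b, F.d i a b * g b) ∈ _
    refine sum_mem fun b _ => ?_
    have := SetLike.mul_mem_graded (F.d_mem i a b) (hgdeg b)
    rwa [show F.deg (i + 1) b - F.deg i a + ((j : ℤ) - F.deg (i + 1) b) = (j : ℤ) - F.deg i a by omega] at this
  obtain ⟨l, c', hc', hcx', hkill⟩ := exists_hom_kill (G r k) x.asHomogeneousIdeal.toIdeal hC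
    (fun a => F.dLin i g a) (fun a => (j : ℤ) - F.deg i a) hdeg (fun a => by
      rw [smul_eq_mul, ← Finset.prod_erase_mul Finset.univ c (Finset.mem_univ a), mul_assoc, hc a, mul_zero])
  refine exists_preimage F (i + 1) x z s hs g hgdeg hg hc' hcx' ?_
  show c' • g ∈ LinearMap.range (Matrix.mulVecLin (F.d (i + 1)))
  rw [← F.exact_succ i, LinearMap.mem_ker, map_smul]
  exact funext fun a => hkill a

theorem epi_eps : Epi (eps F) := by
  classical
  rw [Groth.L21.Mod.epi_iff_stalk_surjective]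
  intro x y
  rcases exists_fractionM (evalM_mem (ℳ := fun n : ℕ => ℳ (n : ℤ)) 0 x y) with h0 |
    ⟨i, j, a, b, hb, hij, hy⟩
  · exact ⟨0, evalM_injective 0 x ((congrArg (evalM _ 0 x) (map_zero _)).trans ((map_zero _).trans h0.symm))⟩
  obtain rfl : i = j := by omega
  obtain ⟨g, hg⟩ := F.aug_surjective a.1
  let g' : Fin (F.rk 0) → S r k := fun b => decompose (G r k) (g b) ((i : ℤ) - F.deg 0 b)
  have hg' : F.augLin g' = a.1 := by
    rw [← decompose_of_mem_same ℳ a.2, ← hg]
    show ∑ b, g' b • F.aug b = (decompose ℳ (∑ b, g b • F.aug b) (i : ℤ) : M)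
    rw [decompose_sum, DFinsupp.finset_sum_apply, Submodule.coe_sum]
    exact Finset.sum_congr rfl fun b _ => (decompose_smul_right ℳ (F.aug_mem b) (g b) (i : ℤ)).symm
  obtain ⟨z, hz⟩ := exists_theta_eq (F.deg 0) x b hb g' fun c => SetLike.coe_mem _
  refine ⟨z, evalM_injective 0 x ?_⟩
  refine (eps_value F x z b hb g' hz).trans ?_
  rw [hg']
  exact hy.symm

end Groth.L22.SyzTilde
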