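import Groth.Agent.L22.SyzTilde.Maps

/-!
Stalks of finite sums of twists and of maps given by homogeneous matrices.
-/

set_option autoImplicit false
set_option backward.isDefEq.respectTransparency false
universe u

open CategoryTheory CategoryTheory.Limits AlgebraicGeometry TopologicalSpace Opposite TopCat DirectSum

noncomputable section

namespace Groth.L22.SyzTilde

variable {k : Type u} [Field k] {r : ℕ}

/-- The projective space. -/
abbrev PS (r : ℕ) (k : Type u) [Field k] : Scheme.{u} := Proj (CohB1.polyGrading r k)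

variable {N N' : ℕ}

/-- `⊕ O(-deg b)`. -/
abbrev Fr (deg : Fin N → ℤ) : (PS r k).Modules :=
  ∐ fun b : Fin N => Twist.twist (CohB1.polyGrading r k) (-deg b)

/-- The projections. -/
def pr (deg : Fin N → ℤ) (a : Fin N) : (Fr (r := r) (k := k) deg) ⟶ Twist.twist (CohB1.polyGrading r k) (-deg a) :=
  Sigma.desc fun b => if h : b = a then eqToHom (by rw [h]) else 0

theorem ι_pr_self (deg : Fin N → ℤ) (a : Fin N) :
    Sigma.ι (fun b : Fin N => Twist.twist (CohB1.polyGrading r k) (-deg b)) a ≫ pr deg a = 𝟙 _ := by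
  rw [pr, Sigma.ι_desc, dif_pos rfl, eqToHom_refl]

theorem ι_pr_ne (deg : Fin N → ℤ) {a b : Fin N} (h : b ≠ a) :
    Sigma.ι (fun b : Fin N => Twist.twist (CohB1.polyGrading r k) (-deg b)) b ≫ pr deg a = 0 := by
  rw [pr, Sigma.ι_desc, dif_neg h]

theorem sum_pr_ι (deg : Fin N → ℤ) :
    ∑ a, pr (r := r) (k := k) deg a ≫ Sigma.ι (fun b : Fin N => Twist.twist (CohB1.polyGrading r k) (-deg b)) a =
      𝟙 (Fr (r := r) (k := k) deg) := by
  refine Sigma.hom_ext _ _ fun i => ?_
  rw [Category.comp_id, Preadditive.comp_sum, Finset.sum_eq_single i, ← Category.assoc, ι_pr_self, Category.id_comp]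
  · intro j _ hj
    rw [← Category.assoc, ι_pr_ne deg (Ne.symm hj), zero_comp]
  · simp

/-- The map of stalks. -/
abbrev st {A B : (PS r k).Modules} (x : ProjectiveSpectrum (CohB1.polyGrading r k)) (f : A ⟶ B) :
    (Groth.L21.Mod.stalkF (PS r k) x).obj A →+ (Groth.L21.Mod.stalkF (PS r k) x).obj B :=
  ((Groth.L21.Mod.stalkF (PS r k) x).map f).hom

theorem st_comp {A B C : (PS r k).Modules} (x : ProjectiveSpectrum (CohB1.polyGrading r k)) (f : A ⟶ B) (g : B ⟶ C)
    (z : (Groth.L21.Mod.stalkF (PS r k) x).obj A) : st x (f ≫ g) z = st x g (st x f z) := by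
  rw [st, Functor.map_comp]
  rfl

theorem st_sum {A B : (PS r k).Modules} (x : ProjectiveSpectrum (CohB1.polyGrading r k)) {ι : Type*} (s : Finset ι)
    (f : ι → (A ⟶ B)) (z : (Groth.L21.Mod.stalkF (PS r k) x).obj A) :
    st x (∑ i ∈ s, f i) z = ∑ i ∈ s, st x (f i) z := by
  classical
  induction s using Finset.induction_on with
  | empty =>
    rw [Finset.sum_empty, Finset.sum_empty, st, Functor.map_zero]
    rfl
  | insert i s hi ih =>
    rw [Finset.sum_insert hi, Finset.sum_insert hi, st, Functor.map_add, ← ih]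
    rfl

theorem st_id {A : (PS r k).Modules} (x : ProjectiveSpectrum (CohB1.polyGrading r k))
    (z : (Groth.L21.Mod.stalkF (PS r k) x).obj A) : st x (𝟙 A) z = z := by
  rw [st, CategoryTheory.Functor.map_id]
  rfl

theorem st_zero {A B : (PS r k).Modules} (x : ProjectiveSpectrum (CohB1.polyGrading r k))
    (z : (Groth.L21.Mod.stalkF (PS r k) x).obj A) : st x (0 : A ⟶ B) z = 0 := by
  rw [st, Functor.map_zero]
  rfl

/-- The values of a germ. -/
def theta (deg : Fin N → ℤ) (x : ProjectiveSpectrum (CohB1.polyGrading r k))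
    (z : (Groth.L21.Mod.stalkF (PS r k) x).obj (Fr deg)) (a : Fin N) : Twist.Loc (CohB1.polyGrading r k) x :=
  evalT (-deg a) x (st x (pr deg a) z)

theorem theta_injective (deg : Fin N → ℤ) (x : ProjectiveSpectrum (CohB1.polyGrading r k)) :
    Function.Injective (theta deg x) := fun z z' h => by
  rw [← st_id x z, ← st_id x z', ← sum_pr_ι deg, st_sum, st_sum]
  refine Finset.sum_congr rfl fun a _ => ?_
  rw [st_comp, st_comp, evalT_injective (-deg a) x (congrFun h a)]

theorem theta_zero (deg : Fin N → ℤ) (x : ProjectiveSpectrum (CohB1.polyGrading r k)) (a : Fin N) :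
    theta deg x 0 a = 0 := by
  rw [theta, map_zero, map_zero]

theorem exists_theta_eq (deg : Fin N → ℤ) (x : ProjectiveSpectrum (CohB1.polyGrading r k)) {j : ℕ}
    (s : CohB1.polyGrading r k j) (hs : s.1 ∉ x.asHomogeneousIdeal) (g : Fin N → S r k)
    (hg : ∀ a, g a ∈ G r k ((j : ℤ) - deg a)) :
    ∃ z, ∀ a, theta deg x z a = Localization.mk (g a) ⟨s.1, hs⟩ := by
  have h : ∀ a, ∃ y, evalT (-deg a) x y = Localization.mk (g a) ⟨s.1, hs⟩ := fun a => by
    rcases exists_nat_of_mem_G (hg a) with h0 | ⟨i, hi, hgi⟩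
    · exact ⟨0, by rw [map_zero, h0, Localization.mk_zero]⟩
    · exact exists_evalT_eq ⟨g a, hgi⟩ s hs (by omega)
  choose y hy using h
  refine ⟨∑ b, st x (Sigma.ι (fun b : Fin N => Twist.twist (CohB1.polyGrading r k) (-deg b)) b) (y b), fun a => ?_⟩
  rw [theta, map_sum, Finset.sum_eq_single a, ← st_comp, ι_pr_self, st_id, hy a]
  · intro b _ hb
    rw [← st_comp, ι_pr_ne deg hb, st_zero]
  · simp

theorem exists_common (deg : Fin N → ℤ) (x : ProjectiveSpectrum (CohB1.polyGrading r k))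
    (z : (Groth.L21.Mod.stalkF (PS r k) x).obj (Fr deg)) :
    ∃ (j : ℕ) (s : CohB1.polyGrading r k j) (hs : s.1 ∉ x.asHomogeneousIdeal) (g : Fin N → S r k),
      (∀ a, g a ∈ G r k ((j : ℤ) - deg a)) ∧ ∀ a, theta deg x z a = Localization.mk (g a) ⟨s.1, hs⟩ := by
  classical
  have h : ∀ a, ∃ (j : ℕ) (s : S r k) (_ : s ∈ CohB1.polyGrading r k j) (hs : s ∉ x.asHomogeneousIdeal) (g : S r k),
      g ∈ G r k ((j : ℤ) - deg a) ∧ theta deg x z a = Localization.mk g ⟨s, hs⟩ := fun a => by
    have hm := evalT_mem (-deg a) x (st x (pr deg a) z)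
    change theta deg x z a ∈ _ at hm
    generalize theta deg x z a = q at hm ⊢
    rcases exists_fractionT hm with rfl | ⟨i, j, g, s, hs, hij, rfl⟩
    · exact ⟨0, 1, SetLike.GradedOne.one_mem, Groth.L16.ProjTwist.one_notMem _ x, 0, zero_mem _,
        (Localization.mk_zero _).symm⟩
    · exact ⟨j, s.1, s.2, hs, g.1, (show (i : ℤ) = (j : ℤ) - deg a by omega) ▸ mem_G_cast.2 g.2, rfl⟩
  choose j s hs hsx g hg hq using h
  have hsP : ∏ a, s a ∈ CohB1.polyGrading r k (∑ a, j a) := SetLike.prod_mem_graded (CohB1.polyGrading r k) j s fun a _ => hs a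
  have hsPx : (∏ a, s a) ∉ x.asHomogeneousIdeal := fun hh => by
    obtain ⟨a, -, ha⟩ := (x.isPrime.prod_mem_iff).1 hh
    exact hsx a ha
  refine ⟨∑ a, j a, ⟨_, hsP⟩, hsPx, fun a => g a * ∏ b ∈ Finset.univ.erase a, s b, fun a => ?_, fun a => ?_⟩
  · have h2 : (∏ b ∈ Finset.univ.erase a, s b) ∈ G r k ((∑ b ∈ Finset.univ.erase a, j b : ℕ) : ℤ) :=
      mem_G_cast.2 (SetLike.prod_mem_graded (CohB1.polyGrading r k) j s fun b _ => hs b)
    have h3 := SetLike.mul_mem_graded (hg a) h2
    have e := Finset.add_sum_erase Finset.univ j (Finset.mem_univ a)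
    rwa [show (j a : ℤ) - deg a + ((∑ b ∈ Finset.univ.erase a, j b : ℕ) : ℤ) =
      ((∑ b, j b : ℕ) : ℤ) - deg a by omega] at h3
  · rw [hq a, Localization.mk_eq_mk_iff, Localization.r_iff_exists]
    refine ⟨1, ?_⟩
    simp only [OneMemClass.coe_one, one_mul]
    rw [← Finset.mul_prod_erase Finset.univ s (Finset.mem_univ a)]
    ring

section Matrix

variable {deg : Fin N → ℤ} {deg' : Fin N' → ℤ} (d : Fin N → Fin N' → S r k)
  (hd : ∀ a b, d a b ∈ G r k (deg' b - deg a))

include hd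

/-- The map given by a homogeneous matrix. -/
def matHom : Fr (r := r) (k := k) deg' ⟶ Fr deg :=
  ∑ a, ∑ b, pr deg' b ≫ mulHom (n := -deg' b) (n' := -deg a) (hd a b) (by omega) ≫
    Sigma.ι (fun a : Fin N => Twist.twist (CohB1.polyGrading r k) (-deg a)) a

theorem theta_matHom (x : ProjectiveSpectrum (CohB1.polyGrading r k))
    (z : (Groth.L21.Mod.stalkF (PS r k) x).obj (Fr deg')) (a : Fin N) :
    theta deg x (st x (matHom d hd) z) a = ∑ b, toLoc x (d a b) * theta deg' x z b := by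
  rw [theta, matHom, st_sum, map_sum, Finset.sum_eq_single a, st_sum, map_sum, map_sum]
  · refine Finset.sum_congr rfl fun b _ => ?_
    rw [← st_comp, Category.assoc, Category.assoc, ι_pr_self, Category.comp_id, st_comp]
    exact evalT_mulHom (hd a b) _ x _
  · intro a' _ ha'
    rw [st_sum, map_sum]
    refine Finset.sum_eq_zero fun b _ => ?_
    rw [← st_comp, Category.assoc, Category.assoc, ι_pr_ne deg ha', comp_zero, comp_zero, st_zero]
  · simp

end Matrix

section Aug

variable {M : Type u} [AddCommGroup M] [Module k M] [Module (S r k) M] {ℳ : ℤ → Submodule k M}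
  [DirectSum.Decomposition ℳ] [SetLike.GradedSMul (G r k) ℳ]
  [SetLike.GradedSMul (CohB1.polyGrading r k) (fun n : ℕ => ℳ (n : ℤ))]
variable {deg : Fin N → ℤ} (m : Fin N → M) (hm : ∀ b, m b ∈ ℳ (deg b))

include hm

/-- The augmentation. -/
def augHom : Fr (r := r) (k := k) deg ⟶ GrTilde.tilde (CohB1.polyGrading r k) (fun n : ℕ => ℳ (n : ℤ)) 0 :=
  ∑ b, pr deg b ≫ rhoHom (hm b) (show -deg b + deg b = 0 by omega)

theorem evalM_augHom (x : ProjectiveSpectrum (CohB1.polyGrading r k))
    (z : (Groth.L21.Mod.stalkF (PS r k) x).obj (Fr deg)) :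
    evalM (fun n : ℕ => ℳ (n : ℤ)) 0 x (st x (augHom (ℳ := ℳ) m hm) z) =
      ∑ b, theta deg x z b • LocalizedModule.mk (m b) ⟨1, Groth.L16.ProjTwist.one_notMem _ x⟩ := by
  rw [augHom, st_sum, map_sum]
  refine Finset.sum_congr rfl fun b _ => ?_
  rw [st_comp]
  exact evalM_rhoHom (hm b) _ x _

end Aug

end Groth.L22.SyzTilde
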