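import Groth.Agent.L18.GrTildeQCoh
import Groth.Agent.L21.Modules

/-!
Stalks of `O(n)` and `M~` as fractions, and maps given by multiplication.
-/

set_option autoImplicit false
set_option backward.isDefEq.respectTransparency false
universe u

open CategoryTheory CategoryTheory.Limits AlgebraicGeometry TopologicalSpace Opposite TopCat

noncomputable section

namespace Groth.L22.SyzTilde

open Groth.L16.ProjTwist (one_notMem)

variable {R A : Type u} [CommRing R] [CommRing A] [Algebra R A] {𝒜 : ℕ → Submodule R A} [GradedAlgebra 𝒜]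

/-- Evaluation at `x` as a cocone. -/
def evalTCocone (n : ℤ) (x : ProjectiveSpectrum 𝒜) :
    Cocone ((OpenNhds.inclusion (X := ProjectiveSpectrum.top 𝒜) x).op ⋙ Twist.twistPre 𝒜 n) where
  pt := AddCommGrpCat.of (Twist.Loc 𝒜 x)
  ι :=
    { app := fun U => AddCommGrpCat.ofHom (X := Twist.sectN (𝒜 := 𝒜) n (op U.unop.1)) (Y := Twist.Loc 𝒜 x)
        { toFun := fun s => (s.1 ⟨x, U.unop.2⟩).1
          map_zero' := rfl
          map_add' := fun _ _ => rfl }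
      naturality := fun _ _ _ => rfl }

/-- The value at `x` of a germ of `O(n)`. -/
def evalT (n : ℤ) (x : ProjectiveSpectrum 𝒜) :
    (Groth.L21.Mod.stalkF (Proj 𝒜) x).obj (Twist.twist 𝒜 n) →+ Twist.Loc 𝒜 x :=
  (colimit.desc _ (evalTCocone n x)).hom

theorem evalT_germ (n : ℤ) (x : ProjectiveSpectrum 𝒜) (U : Opens (ProjectiveSpectrum.top 𝒜)) (hx : x ∈ U)
    (s : Twist.sectN (𝒜 := 𝒜) n (op U)) :
    evalT n x ((Twist.twist 𝒜 n).presheaf.germ U x hx s) = (s.1 ⟨x, hx⟩).1 := by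
  have h := colimit.ι_desc (evalTCocone n x) (op ⟨U, hx⟩)
  exact ConcreteCategory.congr_hom h s

theorem evalT_mem (n : ℤ) (x : ProjectiveSpectrum 𝒜)
    (z : (Groth.L21.Mod.stalkF (Proj 𝒜) x).obj (Twist.twist 𝒜 n)) :
    evalT n x z ∈ Twist.twistAt 𝒜 n x := by
  obtain ⟨U, hx, s, rfl⟩ := TopCat.Presheaf.exists_germ_eq (Twist.twist 𝒜 n).presheaf z
  exact (evalT_germ n x U hx s).symm ▸ (s.1 ⟨x, hx⟩).2

theorem exists_evalT_eq {n : ℤ} {x : ProjectiveSpectrum 𝒜} {i j : ℕ} (a : 𝒜 i) (b : 𝒜 j)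
    (hb : b.1 ∉ x.asHomogeneousIdeal) (hij : (i : ℤ) = j + n) :
    ∃ z, evalT n x z = Localization.mk a.1 ⟨b.1, hb⟩ := by
  let W : Opens (ProjectiveSpectrum.top 𝒜) := ProjectiveSpectrum.basicOpen 𝒜 b.1
  let g : Twist.sectN (𝒜 := 𝒜) n (op W) :=
    Groth.L16.ProjTwist.gen a b hij W (fun y => (ProjectiveSpectrum.mem_basicOpen 𝒜 _ _).1 y.2)
  exact ⟨(Twist.twist 𝒜 n).presheaf.germ W x ((ProjectiveSpectrum.mem_basicOpen 𝒜 _ _).2 hb) g,
    evalT_germ n x W _ g⟩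

theorem evalT_injective (n : ℤ) (x : ProjectiveSpectrum 𝒜) : Function.Injective (evalT (𝒜 := 𝒜) n x) := by
  rw [injective_iff_map_eq_zero]
  intro z hz
  obtain ⟨U, hx, s, rfl⟩ := TopCat.Presheaf.exists_germ_eq (Twist.twist 𝒜 n).presheaf z
  erw [evalT_germ] at hz
  obtain ⟨W, hxW, iW, i, j, a, b, hb, -, hw⟩ := s.2 ⟨x, hx⟩
  have h0 : Localization.mk a.1 ⟨b.1, hb ⟨x, hxW⟩⟩ = (0 : Twist.Loc 𝒜 x) :=
    (hw ⟨x, hxW⟩).symm.trans hz
  rw [← Localization.mk_zero ⟨b.1, hb ⟨x, hxW⟩⟩, Localization.mk_eq_mk_iff, Localization.r_iff_exists] at h0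
  obtain ⟨⟨c, hc⟩, hca⟩ := h0
  simp only [mul_zero] at hca
  let V : Opens (ProjectiveSpectrum.top 𝒜) := W ⊓ ProjectiveSpectrum.basicOpen 𝒜 (c * b.1)
  have hxV : x ∈ V := ⟨hxW, (ProjectiveSpectrum.mem_basicOpen 𝒜 _ _).2 fun h =>
    (x.isPrime.mem_or_mem h).elim hc (hb ⟨x, hxW⟩)⟩
  let iV : V ⟶ U := Opens.infLELeft _ _ ≫ iW
  rw [← TopCat.Presheaf.germ_res_apply (Twist.twist 𝒜 n).presheaf iV x hxV s,
    ← map_zero ((Twist.twist 𝒜 n).presheaf.germ V x hxV).hom]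
  refine congrArg ((Twist.twist 𝒜 n).presheaf.germ V x hxV) ?_
  refine Subtype.ext (funext fun y => Subtype.ext ?_)
  show (s.1 (iV y)).1 = 0
  refine (hw ⟨y.1, y.2.1⟩).trans ?_
  rw [← Localization.mk_zero ⟨b.1, hb ⟨y.1, y.2.1⟩⟩, Localization.mk_eq_mk_iff, Localization.r_iff_exists]
  refine ⟨⟨c * b.1, (ProjectiveSpectrum.mem_basicOpen 𝒜 _ _).1 y.2.2⟩, ?_⟩
  simp only [mul_zero]
  linear_combination b.1 * hca

theorem exists_fractionT {n : ℤ} {x : ProjectiveSpectrum 𝒜} {q : Twist.Loc 𝒜 x} (hq : q ∈ Twist.twistAt 𝒜 n x) :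
    q = 0 ∨ ∃ (i j : ℕ) (a : 𝒜 i) (b : 𝒜 j) (hb : b.1 ∉ x.asHomogeneousIdeal),
      (i : ℤ) = j + n ∧ q = Localization.mk a.1 ⟨b.1, hb⟩ := by
  induction hq using Submodule.span_induction with
  | mem q hq => exact Or.inr hq
  | zero => exact Or.inl rfl
  | add p q _ _ hp hq =>
    rcases hp with rfl | ⟨i, j, a, b, hb, hij, rfl⟩
    · rw [zero_add]; exact hq
    rcases hq with rfl | ⟨i', j', a', b', hb', hij', rfl⟩
    · rw [add_zero]; exact Or.inr ⟨i, j, a, b, hb, hij, rfl⟩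
    refine Or.inr ⟨j + i', j + j', ⟨b.1 * a'.1 + b'.1 * a.1, ?_⟩, ⟨b.1 * b'.1, SetLike.mul_mem_graded b.2 b'.2⟩,
      Groth.L16.ProjTwist.notMem_mul 𝒜 hb hb', by push_cast; omega, ?_⟩
    · exact add_mem (SetLike.mul_mem_graded b.2 a'.2)
        ((show j' + i = j + i' by omega) ▸ SetLike.mul_mem_graded b'.2 a.2)
    · rw [Localization.add_mk]; rfl
  | smul c q _ hq =>
    rcases hq with rfl | ⟨i, j, a, b, hb, hij, rfl⟩
    · exact Or.inl (smul_zero _)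
    obtain ⟨⟨l, ⟨p, hp⟩, ⟨t, ht⟩, htx⟩, rfl⟩ := c.mk_surjective
    refine Or.inr ⟨l + i, l + j, ⟨p * a.1, SetLike.mul_mem_graded hp a.2⟩, ⟨t * b.1, SetLike.mul_mem_graded ht b.2⟩,
      Groth.L16.ProjTwist.notMem_mul 𝒜 htx hb, by push_cast; omega, ?_⟩
    rw [Algebra.smul_def, HomogeneousLocalization.algebraMap_apply, HomogeneousLocalization.val_mk,
      Localization.mk_mul]
    rfl

variable {M : Type u} [AddCommGroup M] [Module R M] [Module A M] [IsScalarTower R A M]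
  {ℳ : ℕ → Submodule R M} [SetLike.GradedSMul 𝒜 ℳ]

omit [IsScalarTower R A M] in
variable (ℳ) in
/-- Evaluation at `x` as a cocone. -/
def evalMCocone (n : ℤ) (x : ProjectiveSpectrum 𝒜) :
    Cocone ((OpenNhds.inclusion (X := ProjectiveSpectrum.top 𝒜) x).op ⋙ GrTilde.tildePre 𝒜 ℳ n) where
  pt := AddCommGrpCat.of (GrTilde.LocMod 𝒜 (M := M) x)
  ι :=
    { app := fun U => AddCommGrpCat.ofHom (X := GrTilde.sect 𝒜 ℳ n (op U.unop.1)) (Y := GrTilde.LocMod 𝒜 (M := M) x)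
        { toFun := fun s => (s.1 ⟨x, U.unop.2⟩).1
          map_zero' := rfl
          map_add' := fun _ _ => rfl }
      naturality := fun _ _ _ => rfl }

omit [IsScalarTower R A M] in
variable (ℳ) in
/-- The value at `x` of a germ of `M(n)~`. -/
def evalM (n : ℤ) (x : ProjectiveSpectrum 𝒜) :
    (Groth.L21.Mod.stalkF (Proj 𝒜) x).obj (GrTilde.tilde 𝒜 ℳ n) →+ GrTilde.LocMod 𝒜 (M := M) x :=
  (colimit.desc _ (evalMCocone ℳ n x)).hom

omit [IsScalarTower R A M] in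
theorem evalM_germ (n : ℤ) (x : ProjectiveSpectrum 𝒜) (U : Opens (ProjectiveSpectrum.top 𝒜)) (hx : x ∈ U)
    (s : GrTilde.sect 𝒜 ℳ n (op U)) :
    evalM ℳ n x ((GrTilde.tilde 𝒜 ℳ n).presheaf.germ U x hx s) = (s.1 ⟨x, hx⟩).1 := by
  have h := colimit.ι_desc (evalMCocone ℳ n x) (op ⟨U, hx⟩)
  exact ConcreteCategory.congr_hom h s

omit [IsScalarTower R A M] in
theorem evalM_mem (n : ℤ) (x : ProjectiveSpectrum 𝒜)
    (z : (Groth.L21.Mod.stalkF (Proj 𝒜) x).obj (GrTilde.tilde 𝒜 ℳ n)) :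
    evalM ℳ n x z ∈ GrTilde.tildeAt 𝒜 ℳ n x := by
  obtain ⟨U, hx, s, rfl⟩ := TopCat.Presheaf.exists_germ_eq (GrTilde.tilde 𝒜 ℳ n).presheaf z
  exact (evalM_germ (ℳ := ℳ) n x U hx s).symm ▸ (s.1 ⟨x, hx⟩).2

omit [IsScalarTower R A M] in
theorem evalM_injective (n : ℤ) (x : ProjectiveSpectrum 𝒜) : Function.Injective (evalM ℳ n x) := by
  rw [injective_iff_map_eq_zero]
  intro z hz
  obtain ⟨U, hx, s, rfl⟩ := TopCat.Presheaf.exists_germ_eq (GrTilde.tilde 𝒜 ℳ n).presheaf z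
  erw [evalM_germ (ℳ := ℳ)] at hz
  obtain ⟨W, hxW, iW, i, j, a, b, hb, -, hw⟩ := s.2 ⟨x, hx⟩
  have h0 : LocalizedModule.mk a.1 ⟨b.1, hb ⟨x, hxW⟩⟩ = (0 : GrTilde.LocMod 𝒜 (M := M) x) :=
    (hw ⟨x, hxW⟩).symm.trans hz
  rw [← LocalizedModule.zero_mk ⟨b.1, hb ⟨x, hxW⟩⟩, LocalizedModule.mk_eq] at h0
  obtain ⟨⟨c, hc⟩, hca⟩ := h0
  simp only [smul_zero, Submonoid.smul_def] at hca
  let V : Opens (ProjectiveSpectrum.top 𝒜) := W ⊓ ProjectiveSpectrum.basicOpen 𝒜 (c * b.1)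
  have hxV : x ∈ V := ⟨hxW, (ProjectiveSpectrum.mem_basicOpen 𝒜 _ _).2 fun h =>
    (x.isPrime.mem_or_mem h).elim hc (hb ⟨x, hxW⟩)⟩
  let iV : V ⟶ U := Opens.infLELeft _ _ ≫ iW
  rw [← TopCat.Presheaf.germ_res_apply (GrTilde.tilde 𝒜 ℳ n).presheaf iV x hxV s,
    ← map_zero ((GrTilde.tilde 𝒜 ℳ n).presheaf.germ V x hxV).hom]
  refine congrArg ((GrTilde.tilde 𝒜 ℳ n).presheaf.germ V x hxV) ?_
  refine Subtype.ext (funext fun y => Subtype.ext ?_)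
  show (s.1 (iV y)).1 = 0
  refine (hw ⟨y.1, y.2.1⟩).trans ?_
  rw [← LocalizedModule.zero_mk ⟨b.1, hb ⟨y.1, y.2.1⟩⟩, LocalizedModule.mk_eq]
  refine ⟨⟨c * b.1, (ProjectiveSpectrum.mem_basicOpen 𝒜 _ _).1 y.2.2⟩, ?_⟩
  simp only [smul_zero, Submonoid.smul_def, smul_smul] at hca ⊢
  rw [mul_assoc, mul_comm b.1, ← mul_assoc, mul_smul, ← mul_smul] at *
  rw [mul_comm _ b.1, mul_smul]
  rw [hca, smul_zero]

omit [IsScalarTower R A M] in
theorem exists_fractionM {n : ℤ} {x : ProjectiveSpectrum 𝒜} {q : GrTilde.LocMod 𝒜 (M := M) x}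
    (hq : q ∈ GrTilde.tildeAt 𝒜 ℳ n x) :
    q = 0 ∨ ∃ (i j : ℕ) (a : ℳ i) (b : 𝒜 j) (hb : b.1 ∉ x.asHomogeneousIdeal),
      (i : ℤ) = j + n ∧ q = LocalizedModule.mk a.1 ⟨b.1, hb⟩ := by
  induction hq using Submodule.span_induction with
  | mem q hq => exact Or.inr hq
  | zero => exact Or.inl rfl
  | add p q _ _ hp hq =>
    rcases hp with rfl | ⟨i, j, a, b, hb, hij, rfl⟩
    · rw [zero_add]; exact hq
    rcases hq with rfl | ⟨i', j', a', b', hb', hij', rfl⟩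
    · rw [add_zero]; exact Or.inr ⟨i, j, a, b, hb, hij, rfl⟩
    refine Or.inr ⟨j' + i, j + j', ⟨b'.1 • a.1 + b.1 • a'.1, ?_⟩, ⟨b.1 * b'.1, SetLike.mul_mem_graded b.2 b'.2⟩,
      Groth.L16.ProjTwist.notMem_mul 𝒜 hb hb', by push_cast; omega, ?_⟩
    · exact add_mem (SetLike.GradedSMul.smul_mem b'.2 a.2)
        ((show j + i' = j' + i by omega) ▸ SetLike.GradedSMul.smul_mem b.2 a'.2)
    · rw [LocalizedModule.mk_add_mk]; rfl
  | smul c q _ hq =>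
    rcases hq with rfl | ⟨i, j, a, b, hb, hij, rfl⟩
    · exact Or.inl (smul_zero _)
    obtain ⟨⟨l, ⟨p, hp⟩, ⟨t, ht⟩, htx⟩, rfl⟩ := c.mk_surjective
    refine Or.inr ⟨l + i, l + j, ⟨p • a.1, SetLike.GradedSMul.smul_mem hp a.2⟩, ⟨t * b.1, SetLike.mul_mem_graded ht b.2⟩,
      Groth.L16.ProjTwist.notMem_mul 𝒜 htx hb, by push_cast; omega, ?_⟩
    rw [GrTilde.a0_smul_def, HomogeneousLocalization.val_mk, LocalizedModule.mk_smul_mk]
    rfl

end Groth.L22.SyzTilde
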