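import Groth.Agent.L22.SyzTilde.Exact
import Groth.Agent.L12.GrTor
import Groth.Agent.S3551
import Groth.Agent.L16.ProjSpace.Basic

/-!
# Finite resolutions of coherent sheaves on projective space by sums of twisting sheaves
-/

set_option autoImplicit false
set_option backward.isDefEq.respectTransparency false
set_option linter.style.haveILetI false
universe u

open CategoryTheory CategoryTheory.Limits AlgebraicGeometry DirectSum

noncomputable section

namespace Groth.L22.SyzTilde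

variable {k : Type u} [Field k] {r : ℕ}
variable {M : Type u} [AddCommGroup M] [Module k M] [Module (S r k) M]
variable (𝒩 : ℕ → Submodule k M)

/-- The extension by zero of a grading by natural numbers to one by integers. -/
def zExt : ℤ → Submodule k M
  | Int.ofNat n => 𝒩 n
  | Int.negSucc _ => ⊥

/-- The inclusion of direct sums. -/
def zIncl : (⨁ n, 𝒩 n) →+ ⨁ i, zExt 𝒩 i :=
  DirectSum.toAddMonoid fun n => DirectSum.of (fun i => zExt 𝒩 i) (n : ℤ)

theorem coe_zIncl (x : ⨁ n, 𝒩 n) :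
    DirectSum.coeAddMonoidHom (zExt 𝒩) (zIncl 𝒩 x) = DirectSum.coeAddMonoidHom 𝒩 x := by
  induction x using DirectSum.induction_on with
  | zero => simp
  | of n m =>
    rw [zIncl, DirectSum.toAddMonoid_of]
    exact (DirectSum.coeAddMonoidHom_of (zExt 𝒩) (n : ℤ) m).trans (DirectSum.coeAddMonoidHom_of 𝒩 n m).symm
  | add a b ha hb => simp only [map_add, ha, hb]

@[reducible]
def zDecomposition [DirectSum.Decomposition 𝒩] : DirectSum.Decomposition (zExt 𝒩) where
  decompose' m := zIncl 𝒩 (DirectSum.decompose 𝒩 m)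
  left_inv m := (coe_zIncl 𝒩 _).trans ((DirectSum.decompose 𝒩).symm_apply_apply m)
  right_inv x := by
    induction x using DirectSum.induction_on with
    | zero => simp
    | of i m =>
      rcases i with n | n
      · rw [DirectSum.coeAddMonoidHom_of]
        show zIncl 𝒩 (DirectSum.decompose 𝒩 (m : M)) = _
        rw [DirectSum.decompose_coe 𝒩 (m : 𝒩 n), zIncl, DirectSum.toAddMonoid_of]
        rfl
      · obtain ⟨m, hm⟩ := m
        obtain rfl : m = 0 := (Submodule.mem_bot k).1 hm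
        rw [show (⟨0, hm⟩ : zExt 𝒩 (Int.negSucc n)) = 0 from rfl]
        simp
    | add a b ha hb => simp only [map_add, DirectSum.decompose_add, ha, hb]

theorem zGradedSMul [SetLike.GradedSMul (CohB1.polyGrading r k) 𝒩] : SetLike.GradedSMul (G r k) (zExt 𝒩) := by
  refine ⟨fun {δ i p m} hp hm => ?_⟩
  rcases i with n | n
  swap
  · rw [(Submodule.mem_bot k).1 hm, smul_zero]
    exact zero_mem _
  rcases δ with d | d
  · show p • m ∈ zExt 𝒩 (((d : ℕ) : ℤ) + ((n : ℕ) : ℤ))
    rw [← Nat.cast_add]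
    exact (SetLike.GradedSMul.smul_mem (A := CohB1.polyGrading r k) (B := 𝒩) (mem_G_cast.1 hp) hm : p • m ∈ 𝒩 (d + n))
  · rw [eq_zero_of_mem_G_neg (Int.negSucc_lt_zero d) hp, zero_smul]
    exact zero_mem _

theorem exists_resolution (n : ℕ) (F : (CohB1.ProjSpace n k).Modules) (hF : Coh.IsCoh F) :
    ∃ (C : ChainComplex (CohB1.ProjSpace n k).Modules ℕ) (π : C.X 0 ⟶ F) (w : C.d 1 0 ≫ π = 0),
      (∀ i : ℕ, n + 1 < i → IsZero (C.X i)) ∧
      (∀ i : ℕ, ∃ (m : ℕ) (d : Fin m → ℤ), Nonempty (C.X i ≅ ∐ fun j : Fin m => Twist.twistProjSpace n k (d j))) ∧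
      (∀ i : ℕ, 1 ≤ i → IsZero (C.homology i)) ∧ Epi π ∧ (ShortComplex.mk (C.d 1 0) π w).Exact := by
  classical
  obtain ⟨N, _, _, _, _, 𝒩, _, _, hfin, ⟨e⟩⟩ := Groth.Agent.S3551.result (CohB1.polyGrading n k)
    (Finset.univ.image (MvPolynomial.X : Fin (n + 1) → MvPolynomial (Fin (n + 1)) k))
    (fun f hf => by
      obtain ⟨i, -, rfl⟩ := Finset.mem_image.1 hf
      exact Groth.L16.ProjSpace.X_mem n k i)
    (by
      refine le_antisymm ?_ (Ideal.span_le.2 ?_)
      · refine (Groth.L16.ProjSpace.irrelevant_le_span n k).trans (Ideal.span_mono ?_)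
        rintro _ ⟨i, rfl⟩
        simp
      · rintro f hf
        obtain ⟨i, -, rfl⟩ := Finset.mem_image.1 (Finset.mem_coe.1 hf)
        exact HomogeneousIdeal.mem_irrelevant_of_mem _ one_pos (Groth.L16.ProjSpace.X_mem n k i))
    F hF.1 hF.2
  letI := zDecomposition 𝒩
  haveI := zGradedSMul (r := n) (k := k) 𝒩
  haveI : SetLike.GradedSMul (CohB1.polyGrading n k) (fun j : ℕ => zExt 𝒩 (j : ℤ)) :=
    inferInstanceAs (SetLike.GradedSMul (CohB1.polyGrading n k) 𝒩)
  obtain ⟨R, -, hlen⟩ := Groth.L12.GrSyzLib.exists_res_hasLengthLE (k := k) (σ := Fin (n + 1)) (ℳ := zExt 𝒩)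
  let C : ChainComplex (PS n k).Modules ℕ :=
    ChainComplex.of (Term R) (dHom R) (dHom_comp R)
  have hC1 : C.d 1 0 = dHom R 0 := ChainComplex.of_d _ _ 0
  let e' : GrTilde.tilde (CohB1.polyGrading n k) (fun j : ℕ => zExt 𝒩 (j : ℤ)) 0 ≅ F := e
  haveI := epi_eps R
  refine ⟨C, eps R ≫ e'.hom, ?_, fun i hi => ?_, fun i => ⟨_, _, ⟨Iso.refl _⟩⟩, fun i hi => ?_,
    epi_comp _ _, ?_⟩
  · rw [hC1, ← Category.assoc, eps_comp, zero_comp]
  · rw [Nat.card_fin] at hlen
    refine (IsZero.iff_id_eq_zero _).2 (?_ : 𝟙 (Fr (R.deg i)) = 0)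
    rw [← sum_pr_ι (R.deg i)]
    exact Finset.sum_eq_zero fun a _ => ((hlen i hi) ▸ a).elim0
  · obtain ⟨i, rfl⟩ := Nat.exists_eq_add_of_le' hi
    refine HomologicalComplex.ExactAt.isZero_homology ?_
    rw [HomologicalComplex.exactAt_iff' C (i + 1 + 1) (i + 1) i (by simp) (by simp)]
    refine ShortComplex.exact_of_iso (ShortComplex.isoMk
      (S₁ := ShortComplex.mk (dHom R (i + 1)) (dHom R i) (dHom_comp R i)) (Iso.refl _) (Iso.refl _) (Iso.refl _) ?_ ?_) (exact_succ' R i)
    · simp [C, ChainComplex.of_d]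
    · simp [C, ChainComplex.of_d]
  · refine ShortComplex.exact_of_iso (ShortComplex.isoMk
      (S₁ := ShortComplex.mk (dHom R 0) (eps R) (eps_comp R)) (Iso.refl _) (Iso.refl _) e' ?_ ?_) (exact_zero' R)
    · simp [hC1]
    · simp

end Groth.L22.SyzTilde
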